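import Mathlib.RingTheory.DividedPowers.DPMorphism
import Mathlib.RingTheory.Ideal.Quotient.Operations

/-!
# Universal divided power algebras
-/

universe u

noncomputable section

namespace Groth.Agent.DPUniv28

set_option linter.style.haveILetI false

variable {A : Type u} [CommRing A] {I : Ideal A} (γ : DividedPowers I) {P : Type u} [CommRing P]
  (a : A →+* P) {ι : Type u} (X : ι → ℕ → P) (Rel : Set P)

/-- A test divided power ring receiving the presentation. -/
structure Model : Type (u + 1) where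
  C : Type u
  [ring : CommRing C]
  K : Ideal C
  ε : DividedPowers K
  φ : P →+* C
  comp : γ.IsDPMorphism ε (φ.comp a)
  mem : ∀ i, φ (X i 1) ∈ K
  pow : ∀ i m, φ (X i m) = ε.dpow m (φ (X i 1))
  rel : ∀ r ∈ Rel, φ r = 0

attribute [instance] Model.ring

variable (I) in
/-- The presentation of the divided power ideal. -/
def JP : Ideal P := Ideal.span (a '' I ∪ Set.range fun q : ι × ℕ => X q.1 (q.2 + 1))

variable {γ a X Rel}

theorem Model.map_mem (M : Model γ a X Rel) {u : P} (hu : u ∈ JP I a X) : M.φ u ∈ M.K := by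
  refine (Ideal.span_le (I := M.K.comap M.φ)).2 ?_ hu
  rintro _ (⟨x, hx, rfl⟩ | ⟨⟨i, m⟩, rfl⟩)
  · exact M.comp.ideal_comp (Ideal.mem_map_of_mem (M.φ.comp a) hx)
  · show M.φ (X i (m + 1)) ∈ M.K
    rw [M.pow]
    exact M.ε.dpow_mem (Nat.succ_ne_zero m) (M.mem i)

variable (Rel) in
theorem exists_dpow {u : P} (hu : u ∈ JP I a X) (n : ℕ) :
    ∃ w : P, (n ≠ 0 → w ∈ JP I a X) ∧ ∀ M : Model γ a X Rel, M.ε.dpow n (M.φ u) = M.φ w := by
  induction hu using Submodule.span_induction generalizing n with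
  | mem u hu =>
    rcases hu with ⟨x, hx, rfl⟩ | ⟨⟨i, m⟩, rfl⟩
    · refine ⟨a (γ.dpow n x), fun hn => Ideal.subset_span (Or.inl ⟨_, γ.dpow_mem hn hx, rfl⟩), fun M => ?_⟩
      exact M.comp.dpow_comp x hx
    · refine ⟨(Nat.uniformBell n (m + 1) : P) * X i (n * (m + 1)), fun hn => ?_, fun M => ?_⟩
      · obtain ⟨k, hk⟩ := Nat.exists_eq_succ_of_ne_zero (Nat.mul_ne_zero hn (Nat.succ_ne_zero m))
        exact Ideal.mul_mem_left _ _ (Ideal.subset_span (Or.inr ⟨⟨i, k⟩, by rw [hk]⟩))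
      · show M.ε.dpow n (M.φ (X i (m + 1))) = _
        rw [M.pow i (m + 1), map_mul, map_natCast, M.pow i (n * (m + 1)),
          M.ε.dpow_comp (Nat.succ_ne_zero m) (M.mem i)]
  | zero =>
    rcases eq_or_ne n 0 with rfl | hn
    · exact ⟨1, fun h => absurd rfl h, fun M => by rw [map_zero, map_one, M.ε.dpow_zero M.K.zero_mem]⟩
    · exact ⟨0, fun _ => zero_mem _, fun M => by rw [map_zero, M.ε.dpow_eval_zero hn]⟩
  | add u v hu hv ihu ihv =>
    choose wu hwu hu' using ihu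
    choose wv hwv hv' using ihv
    refine ⟨(Finset.antidiagonal n).sum fun k => wu k.1 * wv k.2, fun hn => sum_mem fun k hk => ?_, fun M => ?_⟩
    · rw [Finset.mem_antidiagonal] at hk
      rcases eq_or_ne k.1 0 with h | h
      · exact Ideal.mul_mem_left _ _ (hwv _ (by omega))
      · exact Ideal.mul_mem_right _ _ (hwu _ h)
    · rw [map_add, M.ε.dpow_add (M.map_mem hu) (M.map_mem hv), map_sum]
      exact Finset.sum_congr rfl fun k _ => by rw [map_mul, hu', hv']
  | smul p u hu ihu =>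
    obtain ⟨w, hw, hw'⟩ := ihu n
    refine ⟨p ^ n * w, fun hn => Ideal.mul_mem_left _ _ (hw hn), fun M => ?_⟩
    rw [smul_eq_mul, map_mul, map_mul, map_pow, M.ε.dpow_mul (M.map_mem hu), hw']

variable (γ a X Rel)

/-- The relations true in every model. -/
def Q : Ideal P := ⨅ M : Model γ a X Rel, RingHom.ker M.φ

/-- The universal ring. -/
abbrev D : Type u := P ⧸ Q γ a X Rel

/-- The universal ideal. -/
def JD : Ideal (D γ a X Rel) := (JP I a X).map (Ideal.Quotient.mk (Q γ a X Rel))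

variable {γ a X Rel}

/-- Evaluation in a model. -/
def Model.ev (M : Model γ a X Rel) : D γ a X Rel →+* M.C :=
  Ideal.Quotient.lift _ M.φ fun x hx => (Ideal.mem_iInf.1 hx) M

theorem Model.ev_mk (M : Model γ a X Rel) (u : P) : M.ev (Ideal.Quotient.mk _ u) = M.φ u := rfl

theorem ext' {x y : D γ a X Rel} (h : ∀ M : Model γ a X Rel, M.ev x = M.ev y) : x = y := by
  obtain ⟨u, rfl⟩ := Ideal.Quotient.mk_surjective x
  obtain ⟨v, rfl⟩ := Ideal.Quotient.mk_surjective y
  refine Ideal.Quotient.eq.2 (Ideal.mem_iInf.2 fun M => ?_)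
  rw [RingHom.mem_ker, map_sub, ← M.ev_mk, ← M.ev_mk, h M, sub_self]

theorem exists_rep {x : D γ a X Rel} (hx : x ∈ JD γ a X Rel) : ∃ u ∈ JP I a X, Ideal.Quotient.mk _ u = x :=
  (Ideal.mem_map_iff_of_surjective _ Ideal.Quotient.mk_surjective).1 hx

theorem Model.ev_mem (M : Model γ a X Rel) {x : D γ a X Rel} (hx : x ∈ JD γ a X Rel) : M.ev x ∈ M.K := by
  obtain ⟨u, hu, rfl⟩ := exists_rep hx
  exact M.map_mem hu

theorem exists_delta {x : D γ a X Rel} (hx : x ∈ JD γ a X Rel) (n : ℕ) :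
    ∃ y : D γ a X Rel, (n ≠ 0 → y ∈ JD γ a X Rel) ∧ ∀ M : Model γ a X Rel, M.ev y = M.ε.dpow n (M.ev x) := by
  obtain ⟨u, hu, rfl⟩ := exists_rep hx
  obtain ⟨w, hw, hw'⟩ := exists_dpow Rel hu n
  exact ⟨Ideal.Quotient.mk _ w, fun hn => Ideal.mem_map_of_mem _ (hw hn), fun M => (hw' M).symm⟩

open scoped Classical in
/-- The divided powers. -/
def δ (n : ℕ) (x : D γ a X Rel) : D γ a X Rel :=
  if hx : x ∈ JD γ a X Rel then (exists_delta hx n).choose else 0

theorem δ_mem {n : ℕ} {x : D γ a X Rel} (hn : n ≠ 0) (hx : x ∈ JD γ a X Rel) : δ n x ∈ JD γ a X Rel := by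
  rw [δ, dif_pos hx]
  exact (exists_delta hx n).choose_spec.1 hn

theorem ev_δ (M : Model γ a X Rel) {n : ℕ} {x : D γ a X Rel} (hx : x ∈ JD γ a X Rel) :
    M.ev (δ n x) = M.ε.dpow n (M.ev x) := by
  rw [δ, dif_pos hx]
  exact (exists_delta hx n).choose_spec.2 M

variable (γ a X Rel) in
/-- The universal divided power structure. -/
def dp : DividedPowers (JD γ a X Rel) where
  dpow := δ
  dpow_null hx := by rw [δ, dif_neg hx]
  dpow_zero hx := ext' fun M => by rw [ev_δ M hx, map_one, M.ε.dpow_zero (M.ev_mem hx)]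
  dpow_one hx := ext' fun M => by rw [ev_δ M hx, M.ε.dpow_one (M.ev_mem hx)]
  dpow_mem hn hx := δ_mem hn hx
  dpow_add hx hy := ext' fun M => by
    rw [ev_δ M (add_mem hx hy), map_add, M.ε.dpow_add (M.ev_mem hx) (M.ev_mem hy), map_sum]
    exact Finset.sum_congr rfl fun k _ => by rw [map_mul, ev_δ M hx, ev_δ M hy]
  dpow_mul hx := ext' fun M => by
    rw [ev_δ M (Ideal.mul_mem_left _ _ hx), map_mul, M.ε.dpow_mul (M.ev_mem hx), map_mul, map_pow, ev_δ M hx]
  mul_dpow hx := ext' fun M => by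
    rw [map_mul, map_mul, map_natCast, ev_δ M hx, ev_δ M hx, ev_δ M hx, M.ε.mul_dpow (M.ev_mem hx)]
  dpow_comp hn hx := ext' fun M => by
    rw [map_mul, map_natCast, ev_δ M (δ_mem hn hx), ev_δ M hx, ev_δ M hx, M.ε.dpow_comp hn (M.ev_mem hx)]

theorem isDPMorphism_mk : γ.IsDPMorphism (dp γ a X Rel) ((Ideal.Quotient.mk (Q γ a X Rel)).comp a) where
  ideal_comp := by
    rw [← Ideal.map_map]
    refine Ideal.map_mono (Ideal.map_le_iff_le_comap.2 fun x hx => ?_)
    exact Ideal.subset_span (Or.inl ⟨x, hx, rfl⟩)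
  dpow_comp x hx := ext' fun M => by
    show M.ev (δ _ _) = _
    refine (ev_δ M (Ideal.mem_map_of_mem _ (Ideal.subset_span (Or.inl ⟨x, hx, rfl⟩)))).trans ?_
    exact M.comp.dpow_comp x hx

theorem gen_mem (i : ι) : Ideal.Quotient.mk (Q γ a X Rel) (X i 1) ∈ JD γ a X Rel :=
  Ideal.mem_map_of_mem _ (Ideal.subset_span (Or.inr ⟨⟨i, 0⟩, rfl⟩))

theorem dpow_gen (i : ι) (m : ℕ) :
    (dp γ a X Rel).dpow m (Ideal.Quotient.mk _ (X i 1)) = Ideal.Quotient.mk _ (X i m) := ext' fun M => by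
  show M.ev (δ _ _) = _
  rw [ev_δ M (gen_mem i)]
  exact (M.pow i m).symm

theorem Model.isDPMorphism_ev (M : Model γ a X Rel) : (dp γ a X Rel).IsDPMorphism M.ε M.ev where
  ideal_comp := Ideal.map_le_iff_le_comap.2 fun x hx => M.ev_mem hx
  dpow_comp x hx := (ev_δ M hx).symm

/-- Morphisms out of the universal ring are determined by the generators. -/
theorem eq_ev (M : Model γ a X Rel) (χ : D γ a X Rel →+* M.C) (hχ : (dp γ a X Rel).IsDPMorphism M.ε χ)
    (hgen : ∀ i, χ (Ideal.Quotient.mk _ (X i 1)) = M.φ (X i 1)) (i : ι) (m : ℕ) :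
    χ (Ideal.Quotient.mk _ (X i m)) = M.φ (X i m) := by
  rw [← dpow_gen, ← hχ.dpow_comp _ (gen_mem i), hgen, ← M.pow]

end Groth.Agent.DPUniv28
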